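import Mathlib
import Groth.Prelude.Def_W4c5qllcourbesmultMultCrv

/-! `R[X]/(X^n)` is Frobenius over `R`: `Hom_A(M, A) = Hom_R(M, R)`. -/

set_option autoImplicit false
set_option linter.unusedSectionVars false

namespace Groth.Agent.MultCrv

open Polynomial

universe u v

variable {R : Type u} [CommRing R] {n : ℕ}


theorem z_pow_eq_zero : (_root_.MultCrv.z R n) ^ n = 0 := by
  rw [← map_pow, Ideal.Quotient.eq_zero_iff_mem]; exact Ideal.mem_span_singleton_self _

/-- The coefficient of `X^(n-1)`. -/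
noncomputable def lam (R : Type u) [CommRing R] (n : ℕ) : _root_.MultCrv.Rn R n →ₗ[R] R :=
  if hn : n = 0 then 0 else
  (((Ideal.span {(X : R[X]) ^ n}).restrictScalars R).liftQ (Polynomial.lcoeff R (n - 1)) (fun p hp => by
      rw [Submodule.restrictScalars_mem, Ideal.mem_span_singleton] at hp
      rw [LinearMap.mem_ker, Polynomial.lcoeff_apply]
      exact X_pow_dvd_iff.1 hp (n - 1) (by omega))).comp
    (Submodule.Quotient.restrictScalarsEquiv R (Ideal.span {(X : R[X]) ^ n})).symm.toLinearMap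

theorem lam_mk (hn : n ≠ 0) (p : R[X]) :
    lam R n (Ideal.Quotient.mk _ p) = p.coeff (n - 1) := by
  rw [lam, dif_neg hn]
  rfl

theorem ext_lam (a : (_root_.MultCrv.Rn R n)) (h : ∀ j, j < n → lam R n ((_root_.MultCrv.z R n) ^ j * a) = 0) : a = 0 := by
  obtain ⟨p, rfl⟩ := Ideal.Quotient.mk_surjective a
  rw [Ideal.Quotient.eq_zero_iff_mem, Ideal.mem_span_singleton, X_pow_dvd_iff]
  intro d hd
  have := h (n - 1 - d) (by omega)
  rw [← map_pow, ← map_mul, lam_mk (by omega), coeff_X_pow_mul', if_pos (by omega)] at this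
  rwa [show n - 1 - (n - 1 - d) = d by omega] at this

theorem lam_smul_z_pow (r : R) {l : ℕ} (hl : l < n) :
    lam R n (r • (_root_.MultCrv.z R n) ^ l) = if l = n - 1 then r else 0 := by
  have e : r • (_root_.MultCrv.z R n) ^ l = Ideal.Quotient.mk _ (r • X ^ l) := by
    rw [← map_pow]; rfl
  rw [e, lam_mk (by omega), coeff_smul, coeff_X_pow, smul_eq_mul]
  split_ifs with h1 h2 h2 <;> first | (exact (absurd h1.symm h2)) | (exact absurd h2.symm h1) | simp

variable {M : Type v} [AddCommGroup M] [Module (_root_.MultCrv.Rn R n) M] [Module R M] [IsScalarTower R (_root_.MultCrv.Rn R n) M]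

/-- An additive `R`-linear map commuting with `z` is linear over `R[X]/(X^n)`. -/
theorem map_smul_of_comm {N : Type*} [AddCommGroup N] [Module (_root_.MultCrv.Rn R n) N] [Module R N] [IsScalarTower R (_root_.MultCrv.Rn R n) N]
    (g : M →ₗ[R] N) (h : ∀ m, g ((_root_.MultCrv.z R n) • m) = (_root_.MultCrv.z R n) • g m) (a : (_root_.MultCrv.Rn R n)) (m : M) : g (a • m) = a • g m := by
  obtain ⟨p, rfl⟩ := Ideal.Quotient.mk_surjective a
  induction p using Polynomial.induction_on generalizing m with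
  | C r =>
    rw [show (Ideal.Quotient.mk (Ideal.span {(X : R[X]) ^ n})) (C r) = algebraMap R (_root_.MultCrv.Rn R n) r from rfl,
      algebraMap_smul, algebraMap_smul, map_smul]
  | add p q hp hq => rw [map_add, add_smul, add_smul, map_add, hp, hq]
  | monomial k r ih =>
    rw [pow_succ, ← mul_assoc, map_mul, mul_smul, ih, h, ← mul_smul]

/-- The `A`-functional with a given top coefficient. -/
noncomputable def toA (f : M →ₗ[R] R) : M →ₗ[(_root_.MultCrv.Rn R n)] (_root_.MultCrv.Rn R n) where
  toFun m := ∑ l ∈ Finset.range n, f ((_root_.MultCrv.z R n) ^ (n - 1 - l) • m) • (_root_.MultCrv.z R n) ^ l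
  map_add' m m' := by simp only [smul_add, map_add, add_smul, Finset.sum_add_distrib]
  map_smul' a m := by
    refine map_smul_of_comm (N := (_root_.MultCrv.Rn R n))
      ({ toFun := fun m => ∑ l ∈ Finset.range n, f ((_root_.MultCrv.z R n) ^ (n - 1 - l) • m) • (_root_.MultCrv.z R n) ^ l
         map_add' := fun m m' => by simp only [smul_add, map_add, add_smul, Finset.sum_add_distrib]
         map_smul' := fun r m => by
           simp only [smul_comm _ r m, map_smul, smul_assoc, Finset.smul_sum, RingHom.id_apply] } :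
        M →ₗ[R] (_root_.MultCrv.Rn R n)) (fun m => ?_) a m
    show (∑ l ∈ Finset.range n, f ((_root_.MultCrv.z R n) ^ (n - 1 - l) • (_root_.MultCrv.z R n) • m) • (_root_.MultCrv.z R n) ^ l)
      = (_root_.MultCrv.z R n) • ∑ l ∈ Finset.range n, f ((_root_.MultCrv.z R n) ^ (n - 1 - l) • m) • (_root_.MultCrv.z R n) ^ l
    rcases n with _ | k
    · simp
    rw [Finset.smul_sum, Finset.sum_range_succ', Finset.sum_range_succ]
    have h0 : _root_.MultCrv.z R (k + 1) ^ (k + 1 - 1 - 0) • _root_.MultCrv.z R (k + 1) • m = 0 := by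
      rw [smul_smul, ← pow_succ, show k + 1 - 1 - 0 + 1 = k + 1 by omega, z_pow_eq_zero]
      exact zero_smul (_root_.MultCrv.Rn R (k + 1)) m
    have h1 : _root_.MultCrv.z R (k + 1) • (f (_root_.MultCrv.z R (k + 1) ^ (k + 1 - 1 - k) • m) •
        _root_.MultCrv.z R (k + 1) ^ k) = 0 := by
      rw [smul_comm, smul_eq_mul, ← pow_succ', z_pow_eq_zero, smul_zero]
    rw [h0, map_zero, zero_smul, h1]
    refine congrArg (· + 0) (Finset.sum_congr rfl fun l hl => ?_)
    rw [Finset.mem_range] at hl
    rw [smul_smul, ← pow_succ, show k + 1 - 1 - (l + 1) + 1 = k + 1 - 1 - l by omega,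
      smul_comm _ (f _), smul_eq_mul, ← pow_succ']

theorem lam_toA (hn : n ≠ 0) (f : M →ₗ[R] R) (m : M) : lam R n (toA f m) = f m := by
  show lam R n (∑ l ∈ Finset.range n, f ((_root_.MultCrv.z R n) ^ (n - 1 - l) • m) • (_root_.MultCrv.z R n) ^ l) = _
  rw [map_sum, Finset.sum_eq_single_of_mem (n - 1) (Finset.mem_range.2 (by omega))]
  · rw [lam_smul_z_pow _ (by omega), if_pos rfl, Nat.sub_self, pow_zero, one_smul]
  · intro l hl hne
    rw [lam_smul_z_pow _ (Finset.mem_range.1 hl), if_neg hne]

theorem ext_hom {φ ψ : M →ₗ[(_root_.MultCrv.Rn R n)] (_root_.MultCrv.Rn R n)} (h : ∀ m, lam R n (φ m) = lam R n (ψ m)) : φ = ψ := by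
  refine LinearMap.ext fun m => ?_
  rw [← sub_eq_zero]
  refine ext_lam _ fun j _ => ?_
  rw [mul_sub, map_sub, ← smul_eq_mul, ← map_smul, ← smul_eq_mul, ← map_smul, h, sub_self]

/-- `z^(n-1)` times the identity factors through a finite free module when `M/M^(n-1)` is free. -/
theorem exists_factor [IsDomain R] [IsPrincipalIdealRing R] [Module.Finite R M] [Module.IsTorsionFree R M]
    (hn : 1 ≤ n) :
    ∃ (r : ℕ) (φ : M →ₗ[(_root_.MultCrv.Rn R n)] (Fin r → (_root_.MultCrv.Rn R n))) (g : (Fin r → (_root_.MultCrv.Rn R n)) →ₗ[(_root_.MultCrv.Rn R n)] M),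
      ∀ m, g (φ m) = (_root_.MultCrv.z R n) ^ (n - 1) • m := by
  classical
  let w : M →ₗ[R] M := (((_root_.MultCrv.z R n) ^ (n - 1)) • (LinearMap.id : M →ₗ[(_root_.MultCrv.Rn R n)] M)).restrictScalars R
  haveI : IsNoetherian R M := isNoetherian_of_isNoetherianRing_of_finite R M
  let b := Module.finBasisOfFinrankEq R (LinearMap.range w) rfl
  let co : Fin (Module.finrank R (LinearMap.range w)) → (M →ₗ[R] R) := fun j =>
    (b.coord j).comp w.rangeRestrict
  choose u hu using fun j => LinearMap.surjective_rangeRestrict w (b j)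
  have hz : ∀ (j : Fin (Module.finrank R (LinearMap.range w))) (m : M), co j ((_root_.MultCrv.z R n) • m) = 0 := by
    intro j m
    have : w.rangeRestrict ((_root_.MultCrv.z R n) • m) = 0 := Subtype.ext (by
      show (_root_.MultCrv.z R n) ^ (n - 1) • (_root_.MultCrv.z R n) • m = 0
      rw [smul_smul, ← pow_succ, Nat.sub_add_cancel hn, z_pow_eq_zero]
      exact zero_smul (_root_.MultCrv.Rn R n) m)
    simp [co, this]
  let φ : M →ₗ[(_root_.MultCrv.Rn R n)] (Fin (Module.finrank R (LinearMap.range w)) → (_root_.MultCrv.Rn R n)) :=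
    LinearMap.pi fun j =>
      { toFun := fun m => co j m • (_root_.MultCrv.z R n) ^ (n - 1)
        map_add' := fun m m' => by rw [map_add, add_smul]
        map_smul' := fun a m => by
          refine map_smul_of_comm (N := (_root_.MultCrv.Rn R n))
            ((LinearMap.toSpanSingleton R (_root_.MultCrv.Rn R n) ((_root_.MultCrv.z R n) ^ (n - 1))).comp (co j)) (fun m => ?_) a m
          show co j ((_root_.MultCrv.z R n) • m) • (_root_.MultCrv.z R n) ^ (n - 1) = (_root_.MultCrv.z R n) • (co j m • (_root_.MultCrv.z R n) ^ (n - 1))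
          rw [hz, zero_smul, smul_comm, smul_eq_mul, ← pow_succ']
          rw [Nat.sub_add_cancel hn, z_pow_eq_zero, smul_zero] }
  refine ⟨_, φ, Fintype.linearCombination (_root_.MultCrv.Rn R n) u, fun m => ?_⟩
  show (∑ j, φ m j • u j) = _
  have hφ : ∀ j, φ m j • u j = co j m • ((_root_.MultCrv.z R n) ^ (n - 1) • u j) := fun j => by
    show (co j m • (_root_.MultCrv.z R n) ^ (n - 1)) • u j = _
    rw [smul_assoc]
  rw [Finset.sum_congr rfl fun j _ => hφ j]
  have := congrArg (fun x : LinearMap.range w => (x : M)) (b.sum_repr (w.rangeRestrict m))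
  simp only [Submodule.coe_sum, Submodule.coe_smul] at this
  refine Eq.trans (Finset.sum_congr rfl fun j _ => ?_) this
  rw [← hu j]
  rfl

end Groth.Agent.MultCrv
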