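import Mathlib
import Groth.Prelude.Def_W4c5qllcourbesmultMultCrv
import Groth.Agent.MultCrv.Trace

/-! Modules over `R[X]/(X^n)`, `R` a discrete valuation ring: torsion, duality, Ext. -/

set_option autoImplicit false
set_option linter.unusedSectionVars false

namespace Groth.Agent.MultCrv

open CategoryTheory CategoryTheory.Abelian

universe u

variable {R : Type u} [CommRing R] [IsDomain R] [IsDiscreteValuationRing R] {n : ℕ}

instance finite_Rn : Module.Finite R (_root_.MultCrv.Rn R n) :=
  (Polynomial.monic_X_pow (R := R) n).finite_adjoinRoot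

instance torsionFree_Rn : Module.IsTorsionFree R (_root_.MultCrv.Rn R n) := by
  haveI : Module.Free R (_root_.MultCrv.Rn R n) := (Polynomial.monic_X_pow (R := R) n).free_adjoinRoot
  infer_instance

variable {M : Type u} [AddCommGroup M] [Module (_root_.MultCrv.Rn R n) M] [Module R M]
  [IsScalarTower R (_root_.MultCrv.Rn R n) M] [Module.Finite (_root_.MultCrv.Rn R n) M]

omit [IsDomain R] [IsDiscreteValuationRing R] [Module (_root_.MultCrv.Rn R n) M] [IsScalarTower R (_root_.MultCrv.Rn R n) M]
  [Module.Finite (_root_.MultCrv.Rn R n) M] in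
theorem finite_base (n : ℕ) [Module (_root_.MultCrv.Rn R n) M] [IsScalarTower R (_root_.MultCrv.Rn R n) M]
    [Module.Finite (_root_.MultCrv.Rn R n) M] : Module.Finite R M :=
  Module.Finite.trans (_root_.MultCrv.Rn R n) M

theorem extend_base [Module.IsTorsionFree R M] {r : ℕ}
    (f : (Fin r → _root_.MultCrv.Rn R n) →ₗ[_root_.MultCrv.Rn R n] M) (hf : Function.Surjective f)
    (φ : LinearMap.ker f →ₗ[R] R) :
    ∃ ψ : (Fin r → _root_.MultCrv.Rn R n) →ₗ[R] R, ∀ x : LinearMap.ker f, ψ (x : Fin r → _root_.MultCrv.Rn R n) = φ x := by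
  haveI := finite_base (R := R) (M := M) n
  haveI : Module.Free R M := Module.free_of_finite_type_torsion_free'
  obtain ⟨s, hs⟩ := Module.projective_lifting_property (f.restrictScalars R) LinearMap.id hf
  let q : (Fin r → _root_.MultCrv.Rn R n) →ₗ[R] LinearMap.ker f :=
    LinearMap.codRestrict ((LinearMap.ker f).restrictScalars R) (LinearMap.id - s.comp (f.restrictScalars R))
      (fun c => by
        show f (c - s (f c)) = 0
        rw [map_sub, show f (s (f c)) = f c from LinearMap.congr_fun hs (f c), sub_self])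
  refine ⟨φ.comp q, fun x => ?_⟩
  show φ (q x) = φ x
  congr 1
  refine Subtype.ext ?_
  show (x : Fin r → _root_.MultCrv.Rn R n) - s (f x) = x
  rw [show f (x : Fin r → _root_.MultCrv.Rn R n) = 0 from x.2, map_zero, sub_zero]

theorem ext_one_subsingleton (hn : 1 ≤ n) [Module.IsTorsionFree R M] :
    Subsingleton (Ext (ModuleCat.of (_root_.MultCrv.Rn R n) M)
      (ModuleCat.of (_root_.MultCrv.Rn R n) (_root_.MultCrv.Rn R n)) 1) := by
  obtain ⟨r, f, hf⟩ := Module.Finite.exists_fin' (_root_.MultCrv.Rn R n) M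
  have hS : (f.shortComplexKer).ShortExact := LinearMap.shortExact_shortComplexKer hf
  haveI : Projective (ModuleCat.of (_root_.MultCrv.Rn R n) (Fin r → _root_.MultCrv.Rn R n)) :=
    (IsProjective.iff_projective _).mp inferInstance
  refine subsingleton_of_forall_eq 0 fun x => ?_
  haveI : Subsingleton (Ext (ModuleCat.of (_root_.MultCrv.Rn R n) (Fin r → _root_.MultCrv.Rn R n))
      (ModuleCat.of (_root_.MultCrv.Rn R n) (_root_.MultCrv.Rn R n)) 1) :=
    Ext.subsingleton_of_projective _ _ 0
  obtain ⟨y, hy⟩ := Ext.contravariant_sequence_exact₃ hS _ x (Subsingleton.elim _ 0) (show 1 + 0 = 1 from rfl)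
  obtain ⟨φ, rfl⟩ := (Ext.mk₀_bijective _ _).2 y
  obtain ⟨ψ, hψ⟩ := extend_base f hf ((lam R n).comp (φ.hom.restrictScalars R))
  have e : φ = f.shortComplexKer.f ≫ ModuleCat.ofHom (toA ψ) := by
    refine ModuleCat.hom_ext (ext_hom fun c => ?_)
    show lam R n (φ.hom c) = lam R n (toA ψ (c : Fin r → _root_.MultCrv.Rn R n))
    rw [lam_toA (by omega), hψ]
    rfl
  rw [← hy, e, ← Ext.mk₀_comp_mk₀, ← Ext.comp_assoc_of_third_deg_zero, hS.extClass_comp, Ext.zero_comp]

theorem surjective_shift {r : ℕ} (f : (Fin r → _root_.MultCrv.Rn R n) →ₗ[_root_.MultCrv.Rn R n] M)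
    (hf : Function.Surjective f) (N : ModuleCat.{u} (_root_.MultCrv.Rn R n)) (j : ℕ)
    (x : Ext (ModuleCat.of (_root_.MultCrv.Rn R n) M) N (1 + j)) :
    ∃ y : Ext (ModuleCat.of (_root_.MultCrv.Rn R n) (LinearMap.ker f)) N j,
      (LinearMap.shortExact_shortComplexKer hf).extClass.comp y rfl = x := by
  haveI : Projective (ModuleCat.of (_root_.MultCrv.Rn R n) (Fin r → _root_.MultCrv.Rn R n)) :=
    (IsProjective.iff_projective _).mp inferInstance
  haveI : Subsingleton (Ext (ModuleCat.of (_root_.MultCrv.Rn R n) (Fin r → _root_.MultCrv.Rn R n)) N (1 + j)) := by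
    rw [add_comm]; exact Ext.subsingleton_of_projective _ _ j
  exact Ext.contravariant_sequence_exact₃ (LinearMap.shortExact_shortComplexKer hf) _ x
    (Subsingleton.elim _ 0) rfl

theorem kill_one (hn : 1 ≤ n) [Module.IsTorsionFree R M] (N : ModuleCat.{u} (_root_.MultCrv.Rn R n)) (j : ℕ)
    (x : Ext (ModuleCat.of (_root_.MultCrv.Rn R n) M) N (j + 1)) :
    (_root_.MultCrv.z R n ^ (n - 1)) • x = 0 := by
  haveI := finite_base (R := R) (M := M) n
  obtain ⟨r, φ, g, hg⟩ := exists_factor (R := R) (M := M) hn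
  haveI : Projective (ModuleCat.of (_root_.MultCrv.Rn R n) (Fin r → _root_.MultCrv.Rn R n)) :=
    (IsProjective.iff_projective _).mp inferInstance
  haveI : Subsingleton (Ext (ModuleCat.of (_root_.MultCrv.Rn R n) (Fin r → _root_.MultCrv.Rn R n)) N (j + 1)) :=
    Ext.subsingleton_of_projective _ _ j
  rw [← Ext.mk₀_id_comp x, ← Ext.smul_comp, Ext.smul_eq_comp_mk₀, Ext.mk₀_comp_mk₀, Category.id_comp]
  refine Eq.trans (congrArg (fun q => (Ext.mk₀ q).comp x (zero_add _))
    (?_ : _ = ModuleCat.ofHom φ ≫ ModuleCat.ofHom g)) ?_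
  · exact ModuleCat.hom_ext (LinearMap.ext fun m => (hg m).symm)
  rw [← Ext.mk₀_comp_mk₀_assoc, show (Ext.mk₀ (ModuleCat.ofHom g)).comp x (zero_add _) = 0 from
    Subsingleton.elim _ _, Ext.comp_zero]

theorem ext_subsingleton (hn : 1 ≤ n) [Module.IsTorsionFree R M] : ∀ (i : ℕ), 1 ≤ i →
    Subsingleton (Ext (ModuleCat.of (_root_.MultCrv.Rn R n) M)
      (ModuleCat.of (_root_.MultCrv.Rn R n) (_root_.MultCrv.Rn R n)) i) := by
  intro i hi
  induction i, hi using Nat.le_induction generalizing M with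
  | base => exact ext_one_subsingleton hn
  | succ i hi ih =>
    obtain ⟨r, f, hf⟩ := Module.Finite.exists_fin' (_root_.MultCrv.Rn R n) M
    haveI : Module.IsTorsionFree R (LinearMap.ker f) :=
      Function.Injective.moduleIsTorsionFree _ Subtype.val_injective fun _ _ => rfl
    haveI : IsNoetherian (_root_.MultCrv.Rn R n) (Fin r → _root_.MultCrv.Rn R n) := inferInstance
    haveI := ih (M := LinearMap.ker f)
    rw [add_comm]
    refine subsingleton_of_forall_eq 0 fun x => ?_
    obtain ⟨y, rfl⟩ := surjective_shift f hf _ i x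
    rw [Subsingleton.elim y 0, Ext.comp_zero]

theorem torsionFree_of_ext_one (hn : 1 ≤ n) (h : Subsingleton (Ext (ModuleCat.of (_root_.MultCrv.Rn R n) M)
      (ModuleCat.of (_root_.MultCrv.Rn R n) (_root_.MultCrv.Rn R n)) 1)) : Module.IsTorsionFree R M := by
  obtain ⟨r, f, hf⟩ := Module.Finite.exists_fin' (_root_.MultCrv.Rn R n) M
  have hS : (f.shortComplexKer).ShortExact := LinearMap.shortExact_shortComplexKer hf
  haveI : IsNoetherian R (Fin r → _root_.MultCrv.Rn R n) := isNoetherian_of_isNoetherianRing_of_finite R _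
  let K := (LinearMap.ker f).restrictScalars R
  haveI : Module.Finite R K := inferInstance
  haveI : Module.IsTorsionFree R K :=
    Function.Injective.moduleIsTorsionFree _ Subtype.val_injective fun _ _ => rfl
  haveI : Module.Free R K := Module.free_of_finite_type_torsion_free'
  let b := Module.finBasis R K
  haveI : IsScalarTower R (_root_.MultCrv.Rn R n) (LinearMap.ker f) :=
    ⟨fun a e x => Subtype.ext (smul_assoc a e (x : Fin r → _root_.MultCrv.Rn R n))⟩
  have hext : ∀ c : K →ₗ[R] R, ∃ ψ : (Fin r → _root_.MultCrv.Rn R n) →ₗ[R] R, ∀ x : K, ψ x = c x := by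
    intro c
    let c' : LinearMap.ker f →ₗ[R] R :=
      { toFun := fun x => c ⟨x.1, x.2⟩
        map_add' := fun x y => c.map_add ⟨x.1, x.2⟩ ⟨y.1, y.2⟩
        map_smul' := fun a x => c.map_smul a ⟨x.1, x.2⟩ }
    have h0 : hS.extClass.comp (Ext.mk₀ (ModuleCat.ofHom
        (toA (n := n) (M := LinearMap.ker f) c'))) (show 1 + 0 = 1 from rfl) = 0 :=
      h.elim _ _
    obtain ⟨y, hy⟩ := Ext.contravariant_sequence_exact₁ hS _ _ _ h0
    obtain ⟨Φ, rfl⟩ := (Ext.mk₀_bijective (X := ModuleCat.of (_root_.MultCrv.Rn R n) (Fin r → _root_.MultCrv.Rn R n))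
      (Y := ModuleCat.of (_root_.MultCrv.Rn R n) (_root_.MultCrv.Rn R n))).2 y
    rw [Ext.mk₀_comp_mk₀] at hy
    refine ⟨(lam R n).comp (Φ.hom.restrictScalars R), fun x => ?_⟩
    have := congrArg (fun F => lam R n (F.hom x)) ((Ext.mk₀_bijective _ _).1 hy)
    exact this.trans (lam_toA (show n ≠ 0 by omega) c' ⟨x.1, x.2⟩)
  choose ψ hψ using fun j => hext (b.coord j)
  let p : (Fin r → _root_.MultCrv.Rn R n) →ₗ[R] K := ∑ j, (ψ j).smulRight (b j)
  have hp : ∀ x : K, p x = x := fun x => by
    simp only [p, LinearMap.sum_apply, LinearMap.smulRight_apply, hψ]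
    exact b.sum_repr x
  refine Module.isTorsionFree_iff_smul_eq_zero.2 fun a m ham => ?_
  by_cases ha : a = 0
  · exact Or.inl ha
  right
  obtain ⟨c, rfl⟩ := hf m
  have hac : a • c ∈ K := by
    show f (a • c) = 0
    rw [LinearMap.map_smul_of_tower, ham]
  have : a • c = a • (p c : Fin r → _root_.MultCrv.Rn R n) := by
    have := hp ⟨_, hac⟩
    simp only [map_smul] at this
    exact (congrArg Subtype.val this).symm
  have hc : c = (p c : Fin r → _root_.MultCrv.Rn R n) := smul_right_injective _ ha this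
  rw [hc]
  exact (p c).2

theorem kill_two (hn : 1 ≤ n) (N : ModuleCat.{u} (_root_.MultCrv.Rn R n)) (i : ℕ) (hi : 2 ≤ i)
    (x : Ext (ModuleCat.of (_root_.MultCrv.Rn R n) M) N i) :
    (_root_.MultCrv.z R n ^ (n - 1)) • x = 0 := by
  obtain ⟨r, f, hf⟩ := Module.Finite.exists_fin' (_root_.MultCrv.Rn R n) M
  obtain ⟨j, rfl⟩ : ∃ j, i = 1 + (j + 1) := ⟨i - 2, by omega⟩
  haveI : Module.IsTorsionFree R (LinearMap.ker f) :=
    Function.Injective.moduleIsTorsionFree _ Subtype.val_injective fun _ _ => rfl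
  obtain ⟨y, rfl⟩ := surjective_shift f hf N _ x
  rw [← Ext.comp_smul, kill_one hn N j y, Ext.comp_zero]

theorem ext_subsingleton_two (hn : 1 ≤ n) (i : ℕ) (hi : 2 ≤ i) :
    Subsingleton (Ext (ModuleCat.of (_root_.MultCrv.Rn R n) M)
      (ModuleCat.of (_root_.MultCrv.Rn R n) (_root_.MultCrv.Rn R n)) i) := by
  obtain ⟨r, f, hf⟩ := Module.Finite.exists_fin' (_root_.MultCrv.Rn R n) M
  obtain ⟨j, rfl⟩ : ∃ j, i = 1 + (j + 1) := ⟨i - 2, by omega⟩
  haveI : Module.IsTorsionFree R (LinearMap.ker f) :=
    Function.Injective.moduleIsTorsionFree _ Subtype.val_injective fun _ _ => rfl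
  haveI := ext_subsingleton (R := R) (n := n) (M := LinearMap.ker f) hn (j + 1) (by omega)
  refine subsingleton_of_forall_eq 0 fun x => ?_
  obtain ⟨y, rfl⟩ := surjective_shift f hf _ _ x
  rw [Subsingleton.elim y 0, Ext.comp_zero]

theorem reflexive_iff (hn : 1 ≤ n) :
    Module.IsReflexive (_root_.MultCrv.Rn R n) M ↔ Module.IsTorsionFree R M := by
  constructor
  · intro h
    have he := h.bijective_dual_eval'.injective
    refine Module.isTorsionFree_iff_smul_eq_zero.2 fun a m ham => ?_
    by_cases ha : a = 0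
    · exact Or.inl ha
    right
    refine he (LinearMap.ext fun φ => ?_)
    show φ m = Module.Dual.eval (_root_.MultCrv.Rn R n) M 0 φ
    rw [map_zero, LinearMap.zero_apply]
    refine (smul_eq_zero.1 (?_ : a • φ m = 0)).resolve_left ha
    rw [← LinearMap.map_smul_of_tower, ham, map_zero]
  · intro h
    haveI := finite_base (R := R) (M := M) n
    haveI : Module.Free R M := Module.free_of_finite_type_torsion_free'
    have hn0 : n ≠ 0 := by omega
    refine ⟨⟨?_, ?_⟩⟩
    · rw [injective_iff_map_eq_zero]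
      intro m hm
      refine (Module.forall_dual_apply_eq_zero_iff R m).1 fun f => ?_
      rw [← lam_toA hn0 f m, show toA (n := n) f m = 0 from LinearMap.congr_fun hm (toA f), map_zero]
    · intro Ψ
      have hto : ∀ (f g : M →ₗ[R] R), toA (n := n) (f + g) = toA f + toA g := fun f g =>
        ext_hom fun m => by rw [lam_toA hn0, LinearMap.add_apply, LinearMap.add_apply, map_add, lam_toA hn0, lam_toA hn0]
      have hsm : ∀ (c : R) (f : M →ₗ[R] R), toA (n := n) (c • f) = c • toA f := fun c f =>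
        ext_hom fun m => by rw [lam_toA hn0, LinearMap.smul_apply, LinearMap.smul_apply, map_smul, lam_toA hn0]
      let L : Module.Dual R (Module.Dual R M) :=
        { toFun := fun f => lam R n (Ψ (toA f))
          map_add' := fun f g => by rw [hto, map_add, map_add]
          map_smul' := fun c f => by rw [hsm, LinearMap.map_smul_of_tower, map_smul, RingHom.id_apply] }
      obtain ⟨m, hm⟩ := (Module.bijective_dual_eval R M).surjective L
      refine ⟨m, ext_hom fun φ => ?_⟩
      show lam R n (φ m) = lam R n (Ψ φ)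
      have hφ : φ = toA ((lam R n).comp (φ.restrictScalars R)) :=
        ext_hom fun x => by rw [lam_toA hn0]; rfl
      have := LinearMap.congr_fun hm ((lam R n).comp (φ.restrictScalars R))
      exact this.trans (congrArg (fun ψ => lam R n (Ψ ψ)) hφ.symm)

theorem dual_surjective (hn : 1 ≤ n) {M' M'' : Type u} [AddCommGroup M'] [Module (_root_.MultCrv.Rn R n) M']
    [AddCommGroup M''] [Module (_root_.MultCrv.Rn R n) M''] [Module R M'']
    [IsScalarTower R (_root_.MultCrv.Rn R n) M''] [Module.Finite (_root_.MultCrv.Rn R n) M'']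
    [Module.IsTorsionFree R M'']
    (f : M' →ₗ[_root_.MultCrv.Rn R n] M) (g : M →ₗ[_root_.MultCrv.Rn R n] M'') (hf : Function.Injective f)
    (hg : Function.Surjective g) (hfg : LinearMap.range f = LinearMap.ker g) :
    Function.Surjective f.dualMap := by
  letI : Module R M' := Module.compHom M' (algebraMap R (_root_.MultCrv.Rn R n))
  haveI : IsScalarTower R (_root_.MultCrv.Rn R n) M' := ⟨fun a e x => (congrArg (· • x) (Algebra.smul_def a e)).trans (mul_smul _ _ _)⟩
  haveI := finite_base (R := R) (M := M'') n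
  haveI : Module.Free R M'' := Module.free_of_finite_type_torsion_free'
  obtain ⟨s, hs⟩ := Module.projective_lifting_property (g.restrictScalars R) LinearMap.id hg
  let e := LinearEquiv.ofInjective (f.restrictScalars R) hf
  let q : M →ₗ[R] M' := e.symm.toLinearMap.comp
    (LinearMap.codRestrict _ (LinearMap.id - s.comp (g.restrictScalars R)) (fun c => by
      show c - s (g c) ∈ Set.range f
      have : c - s (g c) ∈ LinearMap.ker g := by
        rw [LinearMap.mem_ker, map_sub, show g (s (g c)) = g c from LinearMap.congr_fun hs (g c), sub_self]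
      rw [← hfg] at this
      exact this))
  intro φ
  refine ⟨toA (((lam R n).comp (φ.restrictScalars R)).comp q), ext_hom fun c => ?_⟩
  show lam R n (toA _ (f c)) = lam R n (φ c)
  rw [lam_toA (by omega)]
  show lam R n (φ (q (f c))) = _
  have hgc : g (f c) = 0 := (show f c ∈ LinearMap.ker g by rw [← hfg]; exact ⟨c, rfl⟩)
  have : q (f c) = c := e.injective (Subtype.ext (by
    simp only [q, LinearMap.comp_apply, LinearEquiv.coe_coe, LinearEquiv.apply_symm_apply]
    show f c - s (g (f c)) = f c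
    rw [hgc, map_zero, sub_zero]))
  rw [this]

end Groth.Agent.MultCrv
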