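import Mathlib
import Groth.Prelude.Def_W4c5qllcourbesmultMultCrv
import Groth.Agent.MultCrv.Trace
import Groth.Agent.MultCrv.Main

/-! Graded pieces of the two canonical filtrations. -/

set_option autoImplicit false
set_option linter.unusedSectionVars false

namespace Groth.Agent.MultCrv

universe u

variable {R : Type u} [CommRing R] [IsDomain R] [IsDiscreteValuationRing R] {n : ℕ}
  {M : Type u} [AddCommGroup M] [Module (_root_.MultCrv.Rn R n) M] [Module R M]
  [IsScalarTower R (_root_.MultCrv.Rn R n) M] [Module.Finite (_root_.MultCrv.Rn R n) M]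

theorem torsionFree_iff (hn : 1 ≤ n) :
    Module.IsTorsionFree R M ↔ Module.Free R ↥(_root_.MultCrv.filt2 R n M 1) := by
  haveI := finite_base (R := R) (M := M) n
  haveI : IsNoetherian R M := isNoetherian_of_isNoetherianRing_of_finite R M
  haveI : Module.Finite R ↥(_root_.MultCrv.filt2 R n M 1) :=
    Module.Finite.of_injective ((_root_.MultCrv.filt2 R n M 1).subtype.restrictScalars R) Subtype.val_injective
  constructor
  · intro h
    haveI : Module.IsTorsionFree R ↥(_root_.MultCrv.filt2 R n M 1) :=
      Function.Injective.moduleIsTorsionFree _ Subtype.val_injective fun _ _ => rfl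
    exact Module.free_of_finite_type_torsion_free'
  · intro h
    refine Module.isTorsionFree_iff_smul_eq_zero.2 fun a u hau => ?_
    by_cases ha : a = 0
    · exact Or.inl ha
    right
    have hk : ∀ (j : ℕ) (v : M), a • v = 0 → _root_.MultCrv.z R n ^ j • v = 0 → v = 0 := by
      intro j
      induction j with
      | zero => intro v _ hv; simpa using hv
      | succ j ih =>
        intro v hv hj
        refine ih v hv ?_
        have hmem : _root_.MultCrv.z R n ^ j • v ∈ _root_.MultCrv.filt2 R n M 1 := by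
          show _root_.MultCrv.z R n ^ 1 • _root_.MultCrv.z R n ^ j • v = 0
          rw [smul_smul, ← pow_add, add_comm, hj]
        have h0 : a • (⟨_, hmem⟩ : ↥(_root_.MultCrv.filt2 R n M 1)) = 0 := Subtype.ext (by
          show a • _root_.MultCrv.z R n ^ j • v = 0
          rw [smul_comm, hv, smul_zero])
        exact congrArg Subtype.val ((smul_eq_zero.1 h0).resolve_left ha)
    exact hk n u hau ((congrArg (· • u) z_pow_eq_zero).trans (zero_smul (_root_.MultCrv.Rn R n) u))

theorem finrank_G (i : ℕ) :
    Module.finrank R (_root_.MultCrv.G2 R n M (i + 1)) = Module.finrank R (_root_.MultCrv.G1 R n M i) := by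
  haveI := finite_base (R := R) (M := M) n
  haveI : IsNoetherian R M := isNoetherian_of_isNoetherianRing_of_finite R M
  have hrk : ∀ j, Module.finrank R ((_root_.MultCrv.filt R n M j).restrictScalars R)
      + Module.finrank R ((_root_.MultCrv.filt2 R n M j).restrictScalars R) = Module.finrank R M := fun j => by
    let w : M →ₗ[R] M := ((_root_.MultCrv.z R n ^ j) • (LinearMap.id : M →ₗ[_root_.MultCrv.Rn R n] M)).restrictScalars R
    have hk : (_root_.MultCrv.filt2 R n M j).restrictScalars R = LinearMap.ker w := rfl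
    have hr : (_root_.MultCrv.filt R n M j).restrictScalars R = LinearMap.range w := rfl
    rw [hk, hr, ← (LinearMap.ker w).finrank_quotient_add_finrank, w.quotKerEquivRange.finrank_eq]
  have hmono1 : _root_.MultCrv.filt R n M (i + 1) ≤ _root_.MultCrv.filt R n M i := by
    rintro _ ⟨w, rfl⟩
    exact ⟨_root_.MultCrv.z R n • w, by simp [smul_smul, pow_succ, mul_comm]⟩
  have hmono2 : _root_.MultCrv.filt2 R n M i ≤ _root_.MultCrv.filt2 R n M (i + 1) := fun v hv => by
    show _root_.MultCrv.z R n ^ (i + 1) • v = 0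
    rw [pow_succ', mul_smul, show _root_.MultCrv.z R n ^ i • v = 0 from hv, smul_zero]
  have hq : ∀ (P Q : Submodule (_root_.MultCrv.Rn R n) M), P ≤ Q →
      Module.finrank R (↥Q ⧸ Submodule.comap Q.subtype P) + Module.finrank R (P.restrictScalars R)
        = Module.finrank R (Q.restrictScalars R) := by
    intro P Q hPQ
    have h1 := ((P.restrictScalars R).comap (Q.restrictScalars R).subtype).finrank_quotient_add_finrank
    rw [(Submodule.comapSubtypeEquivOfLe (show P.restrictScalars R ≤ Q.restrictScalars R from hPQ)).finrank_eq] at h1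
    rw [← h1]
    congr 1
  have e1 : Module.finrank R (_root_.MultCrv.G1 R n M i)
      + Module.finrank R ((_root_.MultCrv.filt R n M (i + 1)).restrictScalars R)
        = Module.finrank R ((_root_.MultCrv.filt R n M i).restrictScalars R) := hq _ _ hmono1
  have e2 : Module.finrank R (_root_.MultCrv.G2 R n M (i + 1))
      + Module.finrank R ((_root_.MultCrv.filt2 R n M i).restrictScalars R)
        = Module.finrank R ((_root_.MultCrv.filt2 R n M (i + 1)).restrictScalars R) := hq _ _ hmono2
  have h1 := hrk i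
  have h2 := hrk (i + 1)
  omega

theorem free_of_exact {S : Type*} [CommRing S] {A B C : Type*} [AddCommGroup A] [AddCommGroup B]
    [AddCommGroup C] [Module S A] [Module S B] [Module S C] [Module.Free S A] [Module.Free S C]
    (f : A →ₗ[S] B) (g : B →ₗ[S] C) (hf : Function.Injective f) (h : Function.Exact f g)
    (hg : Function.Surjective g) : Module.Free S B := by
  obtain ⟨s, hs⟩ := Module.projective_lifting_property g LinearMap.id hg
  obtain ⟨e, -, -⟩ := h.splitSurjectiveEquiv hf ⟨s, hs⟩
  exact Module.Free.of_equiv e.symm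

/-- `Γ^(i) → G_i`, induced by `z^i`. -/
noncomputable def pre (i : ℕ) :
    ↥(_root_.MultCrv.filt2 R n M (i + 1)) →ₗ[_root_.MultCrv.Rn R n] _root_.MultCrv.G1 R n M i :=
  (Submodule.mkQ _).comp (LinearMap.codRestrict (_root_.MultCrv.filt R n M i)
    (((_root_.MultCrv.z R n ^ i) • (LinearMap.id : M →ₗ[_root_.MultCrv.Rn R n] M)).comp
      (_root_.MultCrv.filt2 R n M (i + 1)).subtype) (fun u => ⟨(u : M), rfl⟩))

theorem pre_eq_zero_iff (i : ℕ) (u : ↥(_root_.MultCrv.filt2 R n M (i + 1))) :
    pre i u = 0 ↔ ∃ w : M, _root_.MultCrv.z R n ^ (i + 1) • w = _root_.MultCrv.z R n ^ i • (u : M) := by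
  show Submodule.Quotient.mk _ = 0 ↔ _
  rw [Submodule.Quotient.mk_eq_zero, Submodule.mem_comap]
  rfl

noncomputable def gamToG1 (i : ℕ) :
    _root_.MultCrv.Gam2 R n M i →ₗ[_root_.MultCrv.Rn R n] _root_.MultCrv.G1 R n M i :=
  Submodule.liftQ _ (Submodule.liftQ _ (pre i) (fun u hu => by
    rw [Submodule.mem_comap] at hu
    rw [LinearMap.mem_ker, pre_eq_zero_iff]
    refine ⟨0, ?_⟩
    rw [smul_zero]
    exact (hu : _root_.MultCrv.z R n ^ (i + 1 - 1) • (u : M) = 0).symm.trans (by rw [Nat.add_sub_cancel]; rfl)))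
    (by
      rintro _ ⟨q, rfl⟩
      obtain ⟨v, rfl⟩ := Submodule.Quotient.mk_surjective _ q
      rw [LinearMap.mem_ker]
      show pre i (_root_.MultCrv.zDown R n M (i + 1) v) = 0
      rw [pre_eq_zero_iff]
      refine ⟨(v : M), ?_⟩
      show _ = _root_.MultCrv.z R n ^ i • (_root_.MultCrv.z R n • (v : M))
      rw [smul_smul, ← pow_succ])

theorem gamToG1_injective (i : ℕ) : Function.Injective (gamToG1 (R := R) (n := n) (M := M) i) := by
  rw [injective_iff_map_eq_zero]
  intro q hq
  obtain ⟨q, rfl⟩ := Submodule.Quotient.mk_surjective _ q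
  obtain ⟨u, rfl⟩ := Submodule.Quotient.mk_surjective _ q
  obtain ⟨w, hw⟩ := (pre_eq_zero_iff i u).1 hq
  rw [Submodule.Quotient.mk_eq_zero]
  have hwm : w ∈ _root_.MultCrv.filt2 R n M (i + 2) := by
    show _root_.MultCrv.z R n ^ (i + 2) • w = 0
    have hu : _root_.MultCrv.z R n ^ (i + 1) • (u : M) = 0 := u.2
    rw [pow_succ', mul_smul, hw, smul_smul, ← pow_succ', hu]
  refine ⟨Submodule.Quotient.mk ⟨w, hwm⟩, ?_⟩
  show Submodule.Quotient.mk (_root_.MultCrv.zDown R n M (i + 1) ⟨w, hwm⟩) = _
  rw [Submodule.Quotient.eq, Submodule.mem_comap]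
  show _root_.MultCrv.z R n ^ (i + 1 - 1) • (_root_.MultCrv.z R n • w - (u : M)) = 0
  rw [Nat.add_sub_cancel, smul_sub, smul_smul, ← pow_succ, hw, sub_self]

noncomputable def step (i : ℕ) :
    _root_.MultCrv.G1 R n M i →ₗ[_root_.MultCrv.Rn R n] _root_.MultCrv.G1 R n M (i + 1) :=
  Submodule.mapQ _ _ (LinearMap.codRestrict (_root_.MultCrv.filt R n M (i + 1))
    ((_root_.MultCrv.z R n • (LinearMap.id : M →ₗ[_root_.MultCrv.Rn R n] M)).comp
      (_root_.MultCrv.filt R n M i).subtype)
    (fun u => by
      obtain ⟨_, v, rfl⟩ := u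
      exact ⟨v, by simp [smul_smul, pow_succ']⟩))
    (fun u hu => by
      obtain ⟨v, hv⟩ := hu
      refine ⟨v, ?_⟩
      show _root_.MultCrv.z R n ^ (i + 1 + 1) • v = _root_.MultCrv.z R n • (u : M)
      rw [pow_succ', mul_smul]
      exact congrArg _ hv)

theorem step_surjective (i : ℕ) : Function.Surjective (step (R := R) (n := n) (M := M) i) := by
  intro q
  obtain ⟨⟨_, v, rfl⟩, rfl⟩ := Submodule.Quotient.mk_surjective _ q
  refine ⟨Submodule.Quotient.mk ⟨_, v, rfl⟩, ?_⟩
  show Submodule.Quotient.mk _ = _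
  congr 1
  refine Subtype.ext ?_
  show _root_.MultCrv.z R n • _root_.MultCrv.z R n ^ i • v = _root_.MultCrv.z R n ^ (i + 1) • v
  rw [smul_smul, ← pow_succ']

theorem exact_step (i : ℕ) :
    Function.Exact (gamToG1 (R := R) (n := n) (M := M) i) (step (R := R) (n := n) (M := M) i) := by
  intro q
  constructor
  · intro hq
    obtain ⟨⟨_, v, rfl⟩, rfl⟩ := Submodule.Quotient.mk_surjective _ q
    have h : Submodule.Quotient.mk _ = (0 : _root_.MultCrv.G1 R n M (i + 1)) := hq
    rw [Submodule.Quotient.mk_eq_zero, Submodule.mem_comap] at h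
    obtain ⟨w, hw⟩ := h
    have hw' : _root_.MultCrv.z R n ^ (i + 1 + 1) • w = _root_.MultCrv.z R n • _root_.MultCrv.z R n ^ i • v := hw
    have hu : v - _root_.MultCrv.z R n • w ∈ _root_.MultCrv.filt2 R n M (i + 1) := by
      show _root_.MultCrv.z R n ^ (i + 1) • (v - _root_.MultCrv.z R n • w) = 0
      rw [smul_sub, smul_smul (_root_.MultCrv.z R n ^ (i + 1)), ← pow_succ, hw', smul_smul, ← pow_succ', sub_self]
    refine ⟨Submodule.Quotient.mk (Submodule.Quotient.mk ⟨_, hu⟩), ?_⟩
    show Submodule.Quotient.mk _ = Submodule.Quotient.mk _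
    rw [Submodule.Quotient.eq, Submodule.mem_comap]
    refine ⟨-w, ?_⟩
    show _root_.MultCrv.z R n ^ (i + 1) • (-w)
      = _root_.MultCrv.z R n ^ i • (v - _root_.MultCrv.z R n • w) - _root_.MultCrv.z R n ^ i • v
    rw [smul_sub, smul_smul, ← pow_succ, smul_neg]
    abel
  · rintro ⟨g, rfl⟩
    obtain ⟨g, rfl⟩ := Submodule.Quotient.mk_surjective _ g
    obtain ⟨u, rfl⟩ := Submodule.Quotient.mk_surjective _ g
    show Submodule.Quotient.mk _ = (0 : _root_.MultCrv.G1 R n M (i + 1))
    rw [Submodule.Quotient.mk_eq_zero, Submodule.mem_comap]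
    refine ⟨0, ?_⟩
    have hu : _root_.MultCrv.z R n ^ (i + 1) • (u : M) = 0 := u.2
    show _root_.MultCrv.z R n ^ (i + 1 + 1) • (0 : M) = _root_.MultCrv.z R n • _root_.MultCrv.z R n ^ i • (u : M)
    rw [smul_zero, smul_smul, ← pow_succ', hu]

set_option maxHeartbeats 1000000 in
theorem free_iff :
    (∀ i : ℕ, i < n → Module.Free R (_root_.MultCrv.G1 R n M i)) ↔
      (∀ i : ℕ, i < n → Module.Free R (_root_.MultCrv.Gam2 R n M i)) := by
  haveI := finite_base (R := R) (M := M) n
  haveI : IsNoetherian R M := isNoetherian_of_isNoetherianRing_of_finite R M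
  have fin1 : ∀ i, Module.Finite R (_root_.MultCrv.G1 R n M i) := fun i => by
    haveI : Module.Finite R ↥(_root_.MultCrv.filt R n M i) :=
      Module.Finite.of_injective ((_root_.MultCrv.filt R n M i).subtype.restrictScalars R) Subtype.val_injective
    exact Module.Finite.of_surjective
      ((Submodule.mkQ (Submodule.comap (_root_.MultCrv.filt R n M i).subtype
        (_root_.MultCrv.filt R n M (i + 1)))).restrictScalars R) (Submodule.mkQ_surjective _)
  constructor
  · intro h i hi
    haveI := h i hi
    haveI := fin1 i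
    haveI : IsNoetherian R (_root_.MultCrv.G1 R n M i) := isNoetherian_of_isNoetherianRing_of_finite R _
    let g := (gamToG1 (R := R) (n := n) (M := M) i).restrictScalars R
    haveI : Module.Finite R (_root_.MultCrv.Gam2 R n M i) := Module.Finite.of_injective g (gamToG1_injective i)
    haveI : Module.IsTorsionFree R (_root_.MultCrv.Gam2 R n M i) :=
      (gamToG1_injective i).moduleIsTorsionFree g fun r x => map_smul g r x
    exact Module.free_of_finite_type_torsion_free'
  · intro h i hi
    obtain ⟨k, hk⟩ : ∃ k, i + k = n := ⟨n - i, by omega⟩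
    suffices H : ∀ k i, i + k = n → Module.Free R (_root_.MultCrv.G1 R n M i) from H k i hk
    intro k
    induction k with
    | zero =>
      intro i hi
      haveI : Subsingleton (_root_.MultCrv.G1 R n M i) := by
        refine subsingleton_of_forall_eq 0 fun q => ?_
        obtain ⟨⟨_, v, rfl⟩, rfl⟩ := Submodule.Quotient.mk_surjective _ q
        rw [Submodule.Quotient.mk_eq_zero, Submodule.mem_comap]
        refine ⟨0, ?_⟩
        show _root_.MultCrv.z R n ^ (i + 1) • (0 : M) = _root_.MultCrv.z R n ^ i • v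
        rw [smul_zero, show i = n by omega, z_pow_eq_zero]
        exact (zero_smul (_root_.MultCrv.Rn R n) v).symm
      infer_instance
    | succ k ih =>
      intro i hi
      haveI := ih (i + 1) (by omega)
      haveI := h i (by omega)
      exact free_of_exact ((gamToG1 (R := R) (n := n) (M := M) i).restrictScalars R)
        ((step (R := R) (n := n) (M := M) i).restrictScalars R) (gamToG1_injective i) (exact_step i)
        (step_surjective i)

end Groth.Agent.MultCrv
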