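import Mathlib
import Groth.Prelude.Def_W4c5qllcourbesmultMultCrv
import Groth.Agent.MultCrv.Trace

/-! The kernel of a minimal presentation of a quasi-free module is quasi-free of reversed type. -/

set_option autoImplicit false
set_option linter.unusedSectionVars false
set_option synthInstance.maxHeartbeats 400000
set_option maxHeartbeats 1000000

namespace Groth.Agent.MultCrv

open Polynomial

universe u

variable {R : Type u} [CommRing R] {n : ℕ}

theorem z_pow_mul_eq_zero {k : ℕ} (hk : k ≤ n) (a : _root_.MultCrv.Rn R n)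
    (h : _root_.MultCrv.z R n ^ k * a = 0) : a ∈ Ideal.span {_root_.MultCrv.z R n ^ (n - k)} := by
  obtain ⟨p, rfl⟩ := Ideal.Quotient.mk_surjective a
  rw [← map_pow, ← map_mul, Ideal.Quotient.eq_zero_iff_mem, Ideal.mem_span_singleton, X_pow_dvd_iff] at h
  have hp : X ^ (n - k) ∣ p := by
    rw [X_pow_dvd_iff]
    intro d hd
    have := h (d + k) (by omega)
    rwa [coeff_X_pow_mul', if_pos (by omega), Nat.add_sub_cancel] at this
  obtain ⟨q, rfl⟩ := hp
  rw [map_mul, map_pow]
  exact Ideal.mem_span_singleton.2 (dvd_mul_right _ _)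

/-- `A/(z^l) → A`, multiplication by `z^k`, for `k + l = n`. -/
noncomputable def mulMap (k l : ℕ) (h : k + l = n) :
    _root_.MultCrv.Oi R n l →ₗ[_root_.MultCrv.Rn R n] _root_.MultCrv.Rn R n :=
  Submodule.liftQ _ (LinearMap.toSpanSingleton _ _ (_root_.MultCrv.z R n ^ k)) (fun a ha => by
    obtain ⟨b, rfl⟩ := Ideal.mem_span_singleton.1 ha
    rw [LinearMap.mem_ker, LinearMap.toSpanSingleton_apply, smul_eq_mul, mul_right_comm, ← pow_add,
      show l + k = n by omega, z_pow_eq_zero, zero_mul])

theorem mulMap_injective (k l : ℕ) (h : k + l = n) : Function.Injective (mulMap (R := R) k l h) := by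
  rw [injective_iff_map_eq_zero]
  intro x hx
  obtain ⟨a, rfl⟩ := Submodule.Quotient.mk_surjective _ x
  rw [Submodule.Quotient.mk_eq_zero]
  have : _root_.MultCrv.z R n ^ k * a = 0 := by
    rw [mul_comm]; exact hx
  have := z_pow_mul_eq_zero (by omega) a this
  rwa [show n - k = l by omega] at this

variable (m : Fin n → ℕ)

noncomputable def std : ((Σ i : Fin n, Fin (m i)) → _root_.MultCrv.Rn R n) →ₗ[_root_.MultCrv.Rn R n]
    ((i : Fin n) → Fin (m i) → _root_.MultCrv.Oi R n (i.1 + 1)) :=
  LinearMap.pi fun i => LinearMap.pi fun j => (Submodule.mkQ _).comp (LinearMap.proj ⟨i, j⟩)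

theorem std_surjective : Function.Surjective (std (R := R) m) := by
  intro g
  choose c hc using fun p : Σ i : Fin n, Fin (m i) => Submodule.Quotient.mk_surjective _ (g p.1 p.2)
  exact ⟨c, funext fun i => funext fun j => hc ⟨i, j⟩⟩

theorem dvd_of_std_zero (c : (Σ i : Fin n, Fin (m i)) → _root_.MultCrv.Rn R n)
    (h : std m c = 0) : ∀ p, _root_.MultCrv.z R n ∣ c p := by
  rintro ⟨i, j⟩
  have h1 : (Submodule.Quotient.mk (c ⟨i, j⟩) : _root_.MultCrv.Oi R n (i.1 + 1)) = 0 :=
    congrFun (congrFun h i) j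
  obtain ⟨b, hb⟩ := Ideal.mem_span_singleton.1 ((Submodule.Quotient.mk_eq_zero _).1 h1)
  exact ⟨_root_.MultCrv.z R n ^ i.1 * b, by rw [hb, pow_succ']; ring⟩

/-- The value, in `A`, of the component `(i, j)` of a reversed-type element. -/
noncomputable def val (g : (i : Fin n) → Fin (_root_.MultCrv.revType n m i) → _root_.MultCrv.Oi R n (i.1 + 1))
    (i : Fin n) (j : Fin (_root_.MultCrv.revType n m i)) : _root_.MultCrv.Rn R n :=
  mulMap (n - 1 - i.1) (i.1 + 1) (by omega) (g i j)

theorem val_congr (g : (i : Fin n) → Fin (_root_.MultCrv.revType n m i) → _root_.MultCrv.Oi R n (i.1 + 1))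
    {i i' : Fin n} (h : i = i') (j : Fin (_root_.MultCrv.revType n m i))
    (j' : Fin (_root_.MultCrv.revType n m i')) (hj : j.1 = j'.1) : val m g i j = val m g i' j' := by
  subst h
  rw [Fin.ext hj]

theorem rev_apply (i : Fin n) (h : i.1 + 1 < n) :
    m i = _root_.MultCrv.revType n m ⟨n - 2 - i.1, by omega⟩ := by
  rw [_root_.MultCrv.revType, dif_pos (show n - 2 - i.1 + 1 < n by omega)]
  exact congrArg m (Fin.ext (by show i.1 = n - 2 - (n - 2 - i.1); omega))

noncomputable def incl : ((i : Fin n) → Fin (_root_.MultCrv.revType n m i) → _root_.MultCrv.Oi R n (i.1 + 1))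
    →ₗ[_root_.MultCrv.Rn R n] ((Σ i : Fin n, Fin (m i)) → _root_.MultCrv.Rn R n) where
  toFun g p := if h : p.1.1 + 1 < n then
      val m g ⟨n - 2 - p.1.1, by omega⟩ (Fin.cast (rev_apply m p.1 h) p.2) else 0
  map_add' g g' := by
    funext p
    simp only [Pi.add_apply]
    split_ifs <;> simp [val]
  map_smul' a g := by
    funext p
    simp only [Pi.smul_apply, RingHom.id_apply]
    split_ifs <;> simp [val]

theorem incl_injective : Function.Injective (incl (R := R) m) := by
  rw [injective_iff_map_eq_zero]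
  intro g hg
  funext i j
  have hi : i.1 + 1 < n := by
    by_contra h
    have : _root_.MultCrv.revType n m i = 0 := by rw [_root_.MultCrv.revType, dif_neg h]
    exact (Fin.cast this j).elim0
  have hm : _root_.MultCrv.revType n m i = m ⟨n - 2 - i.1, by omega⟩ := by
    rw [_root_.MultCrv.revType, dif_pos hi]
  have := congrFun hg ⟨⟨n - 2 - i.1, by omega⟩, Fin.cast hm j⟩
  simp only [incl, LinearMap.coe_mk, AddHom.coe_mk, Pi.zero_apply] at this
  rw [dif_pos (show n - 2 - i.1 + 1 < n by omega)] at this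
  have e2 := (val_congr m g (i' := i) (Fin.ext (by show n - 2 - (n - 2 - i.1) = i.1; omega)) _ j (by rfl)).symm.trans this
  exact mulMap_injective _ _ _ (e2.trans (map_zero _).symm)

theorem range_incl : LinearMap.range (incl (R := R) m) = LinearMap.ker (std (R := R) m) := by
  refine le_antisymm ?_ ?_
  · rintro _ ⟨g, rfl⟩
    refine funext fun i => funext fun j => ?_
    show Submodule.Quotient.mk (incl m g ⟨i, j⟩) = (0 : _root_.MultCrv.Oi R n (i.1 + 1))
    rw [Submodule.Quotient.mk_eq_zero]
    simp only [incl, LinearMap.coe_mk, AddHom.coe_mk]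
    split_ifs with h
    · obtain ⟨a, ha⟩ := Submodule.Quotient.mk_surjective _
        (g ⟨n - 2 - i.1, by omega⟩ (Fin.cast (rev_apply m i h) j))
      rw [val, ← ha]
      show a • _root_.MultCrv.z R n ^ (n - 1 - (n - 2 - i.1)) ∈ _
      rw [show n - 1 - (n - 2 - i.1) = i.1 + 1 by omega]
      exact Submodule.smul_mem _ a (Ideal.mem_span_singleton_self _)
    · exact zero_mem _
  · intro c hc
    have hdiv : ∀ i j, ∃ b, c ⟨i, j⟩ = _root_.MultCrv.z R n ^ (i.1 + 1) * b := fun i j => by
      have := congrFun (congrFun hc i) j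
      exact Ideal.mem_span_singleton.1 ((Submodule.Quotient.mk_eq_zero _).1 this)
    choose b hb using hdiv
    let B : (i : Fin n) → Fin (_root_.MultCrv.revType n m i) → _root_.MultCrv.Rn R n := fun i j =>
      if h : i.1 + 1 < n then b ⟨n - 2 - i.1, by omega⟩
        (Fin.cast (by rw [_root_.MultCrv.revType, dif_pos h]) j) else 0
    refine ⟨fun i j => Submodule.Quotient.mk (B i j), funext fun ⟨i, j⟩ => ?_⟩
    simp only [incl, LinearMap.coe_mk, AddHom.coe_mk]
    split_ifs with h
    · show B _ _ • _root_.MultCrv.z R n ^ (n - 1 - (n - 2 - i.1)) = _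
      rw [hb, show n - 1 - (n - 2 - i.1) = i.1 + 1 by omega, smul_eq_mul, mul_comm]
      congr 1
      simp only [B]
      rw [dif_pos (show n - 2 - i.1 + 1 < n by omega)]
      have hcongr : ∀ (i' : Fin n) (_ : i' = i) (j' : Fin (m i')), j'.1 = j.1 → b i' j' = b i j := by
        rintro i' rfl j' hj
        rw [Fin.ext hj]
      exact hcongr _ (Fin.ext (by show n - 2 - (n - 2 - i.1) = i.1; omega)) _ rfl
    · rw [hb, show i.1 + 1 = n by omega, z_pow_eq_zero, zero_mul]

theorem exists_endo_eq {M : Type u} [AddCommGroup M] [Module (_root_.MultCrv.Rn R n) M]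
    [Module.Finite (_root_.MultCrv.Rn R n) M] (u : M →ₗ[_root_.MultCrv.Rn R n] M)
    (h : Function.Surjective u) : Function.Injective u :=
  OrzechProperty.injective_of_surjective_endomorphism u h

theorem surjective_of_mod_z {M N : Type u} [AddCommGroup M] [Module (_root_.MultCrv.Rn R n) M]
    [AddCommGroup N] [Module (_root_.MultCrv.Rn R n) N] (φ : M →ₗ[_root_.MultCrv.Rn R n] N)
    (h : ∀ v : N, ∃ u : M, ∃ w : N, v - φ u = _root_.MultCrv.z R n • w) : Function.Surjective φ := by
  have hk : ∀ (j : ℕ) (v : N), ∃ u : M, ∃ w : N, v - φ u = _root_.MultCrv.z R n ^ j • w := by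
    intro j
    induction j with
    | zero => exact fun v => ⟨0, v, by simp⟩
    | succ j ih =>
      intro v
      obtain ⟨u, w, huw⟩ := ih v
      obtain ⟨u', w', hw'⟩ := h w
      refine ⟨u + _root_.MultCrv.z R n ^ j • u', w', ?_⟩
      rw [map_add, map_smul, ← sub_sub, huw, ← smul_sub, hw', smul_smul, ← pow_succ]
  intro v
  obtain ⟨u, w, huw⟩ := hk n v
  refine ⟨u, ?_⟩
  exact (sub_eq_zero.1 (huw.trans ((congrArg (· • w) z_pow_eq_zero).trans
    (zero_smul (_root_.MultCrv.Rn R n) w)))).symm

theorem quasiFree_ker {M : Type u} [AddCommGroup M] [Module (_root_.MultCrv.Rn R n) M]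
    (hM : _root_.MultCrv.IsQuasiFreeOfType R n M m) (r : ℕ)
    (φ : (Fin r → _root_.MultCrv.Rn R n) →ₗ[_root_.MultCrv.Rn R n] M) (hφ : Function.Surjective φ)
    (hφz : ∀ f, φ f ∈ _root_.MultCrv.filt R n M 1 →
      f ∈ _root_.MultCrv.filt R n (Fin r → _root_.MultCrv.Rn R n) 1) :
    _root_.MultCrv.IsQuasiFreeOfType R n ↥(LinearMap.ker φ) (_root_.MultCrv.revType n m) := by
  obtain ⟨e⟩ := hM
  let E := e.trans (_root_.MultCrv.QFModel.equivPi R n m)
  let ψ : (Fin r → _root_.MultCrv.Rn R n) →ₗ[_root_.MultCrv.Rn R n] _ := E.toLinearMap.comp φ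
  have hψ : Function.Surjective ψ := E.surjective.comp hφ
  obtain ⟨u, hu⟩ := Module.projective_lifting_property (std (R := R) m) ψ (std_surjective m)
  obtain ⟨v, hv⟩ := Module.projective_lifting_property ψ (std (R := R) m) hψ
  have hus : Function.Surjective u := by
    refine surjective_of_mod_z u fun c => ?_
    obtain ⟨f, hf⟩ := hψ (std m c)
    have h0 : std m (c - u f) = 0 := by
      rw [map_sub, show std m (u f) = ψ f from LinearMap.congr_fun hu f, hf]
      exact _root_.funext fun i => _root_.funext fun j => sub_self (std (R := R) m c i j)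
    choose w hw using dvd_of_std_zero m _ h0
    exact ⟨f, w, _root_.funext hw⟩
  have hvs : Function.Surjective v := by
    refine surjective_of_mod_z v fun f => ?_
    obtain ⟨c, hc⟩ := std_surjective m (ψ f)
    have h0 : ψ (f - v c) = 0 := by
      rw [map_sub, show ψ (v c) = std m c from LinearMap.congr_fun hv c, hc]
      exact _root_.funext fun i => _root_.funext fun j => sub_self _
    have h1 : φ (f - v c) = 0 := E.injective (h0.trans (map_zero E).symm)
    obtain ⟨w, hw⟩ := hφz (f - v c) (by rw [h1]; exact zero_mem _)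
    exact ⟨c, w, by rw [← hw]; simp⟩
  have hvi : Function.Injective v := fun a b h =>
    exists_endo_eq (u.comp v) (hus.comp hvs) (congrArg u h)
  have hmap : (LinearMap.range (incl (R := R) m)).map v = LinearMap.ker φ := by
    ext f
    constructor
    · rintro ⟨c, hc, rfl⟩
      rw [range_incl] at hc
      refine E.injective ?_
      show ψ (v c) = E 0
      rw [show ψ (v c) = std m c from LinearMap.congr_fun hv c, map_zero]
      exact hc
    · intro hf
      obtain ⟨c, rfl⟩ := hvs f
      refine ⟨c, ?_, rfl⟩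
      rw [range_incl]
      show std m c = 0
      rw [← show ψ (v c) = std m c from LinearMap.congr_fun hv c]
      show E (φ (v c)) = 0
      rw [show φ (v c) = 0 from hf, map_zero]
  exact ⟨(((LinearEquiv.ofInjective _ (incl_injective m)).trans
    (Submodule.equivMapOfInjective v hvi _)).trans (LinearEquiv.ofEq _ _ hmap)).symm.trans
      (_root_.MultCrv.QFModel.equivPi R n (_root_.MultCrv.revType n m)).symm⟩

end Groth.Agent.MultCrv
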